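import Groth.Prelude.Def_ModSite2
import Mathlib.CategoryTheory.Sites.Point.Conservative

/-!
# Germs at a point of a ringed site
-/

universe u

open CategoryTheory Limits Opposite ModSite

namespace Groth.Agent.Lib.SiteStalk.Germ

variable {C : Type u} [SmallCategory C] {J : GrothendieckTopology C}
  (p : GrothendieckTopology.Point.{u} J) {O : Sheaf J CommRingCat.{u}}

/-- A sieve meets a point: the point lifts along one of its arrows. -/
def Hit {X : C} (x : p.fiber.obj X) (T : Sieve X) : Prop :=
  ∃ (Y : C) (g : Y ⟶ X), T g ∧ ∃ y : p.fiber.obj Y, p.fiber.map g y = x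

theorem hit_top {X : C} (x : p.fiber.obj X) : Hit p x ⊤ :=
  ⟨X, 𝟙 X, trivial, x, by simp⟩

theorem hit_of_mem {X : C} (x : p.fiber.obj X) {T : Sieve X} (hT : T ∈ J X) : Hit p x T := by
  obtain ⟨Y, g, hg, y, hy⟩ := p.jointly_surjective T hT x
  exact ⟨Y, g, hg, y, hy⟩

theorem Hit.inf {X : C} {x : p.fiber.obj X} {T T' : Sieve X} (h : Hit p x T) (h' : Hit p x T') :
    Hit p x (T ⊓ T') := by
  obtain ⟨Y, g, hg, y, hy⟩ := h
  obtain ⟨Y', g', hg', y', hy'⟩ := h'
  obtain ⟨k, a, a', e⟩ := IsCofiltered.cospan
    (CategoryOfElements.homMk (Functor.elementsMk p.fiber Y y) (Functor.elementsMk p.fiber X x) g hy)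
    (CategoryOfElements.homMk (Functor.elementsMk p.fiber Y' y') (Functor.elementsMk p.fiber X x) g' hy')
  have e' : a.1 ≫ g = a'.1 ≫ g' := congrArg Subtype.val e
  refine ⟨k.1, a.1 ≫ g, ⟨T.downward_closed hg _, ?_⟩, k.2, ?_⟩
  · rw [e']
    exact T'.downward_closed hg' _
  · rw [Functor.map_comp]
    exact (congrArg (p.fiber.map g) a.2).trans hy

theorem hit_biInf {X : C} (x : p.fiber.obj X) {ι : Type*} [Finite ι] (T : ι → Sieve X)
    (h : ∀ i, Hit p x (T i)) :
    ∃ (Y : C) (g : Y ⟶ X), (∀ i, T i g) ∧ ∃ y : p.fiber.obj Y, p.fiber.map g y = x := by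
  classical
  cases nonempty_fintype ι
  suffices H : ∀ s : Finset ι, Hit p x (s.inf T) by
    obtain ⟨Y, g, hg, hy⟩ := H Finset.univ
    exact ⟨Y, g, fun i => Finset.inf_le (f := T) (Finset.mem_univ i) _ hg, hy⟩
  intro s
  induction s using Finset.induction with
  | empty => exact hit_top p x
  | insert i s hi ih => rw [Finset.inf_insert]; exact (h i).inf p ih

/-- Finitely many neighbourhoods have a common refinement. -/
theorem exists_common {ι : Type*} [Finite ι] (X : ι → C) (x : ∀ i, p.fiber.obj (X i)) :
    ∃ (W : C) (w : p.fiber.obj W) (g : ∀ i, W ⟶ X i), ∀ i, p.fiber.map (g i) w = x i := by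
  classical
  cases nonempty_fintype ι
  obtain ⟨W, hW⟩ := IsCofiltered.inf_objs_exists
    (Finset.univ.image fun i => Functor.elementsMk p.fiber (X i) (x i))
  have h := fun i => (hW (Finset.mem_image_of_mem (fun i => Functor.elementsMk p.fiber (X i) (x i))
    (Finset.mem_univ i))).some
  exact ⟨W.1, W.2, fun i => (h i).1, fun i => (h i).2⟩

section Module

variable (F : Mod O)

/-- The germ map, as an additive map. -/
noncomputable def germHom (X : C) (x : p.fiber.obj X) : sect F X →+ stalkAb p F :=
  (p.toPresheafFiber X x (toAb F).obj).hom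

lemma germHom_apply {X : C} (x : p.fiber.obj X) (s : sect F X) :
    germHom p F X x s = germ p F X x s := rfl

lemma germHom_smul {X : C} (x : p.fiber.obj X) (r : O.obj.obj (op X)) (s : sect F X) :
    germHom p F X x (r • s) = germRing p X x r • germHom p F X x s :=
  germ_smul p F X x r s

lemma germHom_res {X Y : C} (g : Y ⟶ X) (y : p.fiber.obj Y) (s : sect F X) :
    germHom p F Y y ((F.val.presheaf.map g.op).hom s) = germHom p F X (p.fiber.map g y) s :=
  p.toPresheafFiber_w_apply g y (toAb F).obj s

theorem exists_germ (m : stalkAb p F) :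
    ∃ (X : C) (x : p.fiber.obj X) (s : sect F X), germHom p F X x s = m :=
  p.toPresheafFiber_jointly_surjective m

/-- The sieve where a section vanishes. -/
def nullSieve {X : C} (s : sect F X) : Sieve X where
  arrows _ g := (F.val.presheaf.map g.op).hom s = 0
  downward_closed {Y Z} g hg h := by
    rw [op_comp, Functor.map_comp]
    exact (congrArg (F.val.presheaf.map h.op).hom hg).trans (map_zero _)

theorem hit_of_germ_eq_zero {X : C} (x : p.fiber.obj X) (s : sect F X)
    (h : germHom p F X x s = 0) : Hit p x (nullSieve F s) := by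
  obtain ⟨Y, g, y, hy, e⟩ := (p.toPresheafFiber_eq_iff' (P := (toAb F).obj) X x s 0).1
    (h.trans (map_zero (germHom p F X x)).symm)
  exact ⟨Y, g, e.trans (map_zero (F.val.presheaf.map g.op).hom), y, hy⟩

lemma stalkMap_germHom {G : Mod O} (φ : F ⟶ G) {X : C} (x : p.fiber.obj X) (s : sect F X) :
    (stalkMap p φ).hom (germHom p F X x s) = germHom p G X x ((φ.val.app (op X)).hom s) :=
  p.toPresheafFiber_naturality_apply ((SheafOfModules.toSheaf (ringSh O)).map φ).hom X x s

end Module

section Ring

/-- The germ map of the structure sheaf, as a ring map. -/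
noncomputable def germRingHom (X : C) (x : p.fiber.obj X) : O.obj.obj (op X) →+* stalkRing p O :=
  (p.toPresheafFiber X x O.obj).hom

lemma germRingHom_apply {X : C} (x : p.fiber.obj X) (r : O.obj.obj (op X)) :
    germRingHom p X x r = germRing p X x r := rfl

lemma germRingHom_res {X Y : C} (g : Y ⟶ X) (y : p.fiber.obj Y) (r : O.obj.obj (op X)) :
    germRingHom p Y y ((O.obj.map g.op).hom r) = germRingHom p X (p.fiber.map g y) r :=
  p.toPresheafFiber_w_apply g y O.obj r

theorem exists_germRing (a : stalkRing p O) :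
    ∃ (X : C) (x : p.fiber.obj X) (r : O.obj.obj (op X)), germRingHom p X x r = a :=
  p.toPresheafFiber_jointly_surjective a

/-- The sieve where a function vanishes. -/
def nullSieveRing {X : C} (r : O.obj.obj (op X)) : Sieve X where
  arrows _ g := (O.obj.map g.op).hom r = 0
  downward_closed {Y Z} g hg h := by
    rw [op_comp, Functor.map_comp]
    exact (congrArg (O.obj.map h.op).hom hg).trans (map_zero _)

theorem hit_of_germRing_eq_zero {X : C} (x : p.fiber.obj X) (r : O.obj.obj (op X))
    (h : germRingHom p X x r = 0) : Hit p x (nullSieveRing r) := by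
  obtain ⟨Y, g, y, hy, e⟩ := (p.toPresheafFiber_eq_iff' (P := O.obj) X x r 0).1
    (h.trans (map_zero (germRingHom (O := O) p X x)).symm)
  exact ⟨Y, g, e.trans (map_zero (O.obj.map g.op).hom), y, hy⟩

end Ring

section Conservative

variable {P : ObjectProperty (GrothendieckTopology.Point.{u} J)}

/-- A sieve meeting every point of a conservative family is covering. -/
theorem mem_of_hit (hP : P.IsConservativeFamilyOfPoints) {X : C} (T : Sieve X)
    (h : ∀ q, P q → ∀ x : q.fiber.obj X, Hit q x T) : T ∈ J X := by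
  have hmem : Sieve.ofArrows (fun a : Σ Y : C, {g : Y ⟶ X // T g} => a.1) (fun a => a.2.1) ∈ J X := by
    rw [hP.jointly_reflect_ofArrows_mem]
    intro Φ x
    obtain ⟨Y, g, hg, y, hy⟩ := h Φ.obj Φ.property x
    exact ⟨⟨Y, g, hg⟩, y, hy⟩
  refine J.superset_covering ?_ hmem
  rw [Sieve.generate_le_iff, Presieve.ofArrows_le_iff]
  exact fun a => a.2.2

end Conservative

end Groth.Agent.Lib.SiteStalk.Germ
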