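import Groth.Agent.Lib.SiteStalk.Germ
import Groth.Agent.Lib.FlatCrit.Iff
import Mathlib.RingTheory.Flat.EquationalCriterion

/-!
# Flatness and stalks
-/

universe u

open CategoryTheory Limits Opposite ModSite

namespace Groth.Agent.Lib.SiteStalk.Flat

open Groth.Agent.Lib.FlatCrit Groth.Agent.Lib.SiteStalk.Germ
open Groth.Agent.Lib.ModTensor.Monoidal Groth.Agent.Lib.ModTensor.Local

variable {C : Type u} [SmallCategory C] {J : GrothendieckTopology C} {O : Sheaf J CommRingCat.{u}}
  {F : _root_.ModSite.Mod O}

/-- If relations are locally trivial then stalks are flat. -/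
theorem flat_stalk_of_crit (hF : Rel.Crit (R := O.obj) J ((G.{u, u, u} O).obj F))
    (p : GrothendieckTopology.Point.{u} J) :
    Module.Flat (stalkRing p O) (stalkMod p F) := by
  refine Module.Flat.iff_forall_isTrivialRelation.2 fun {n f m} hsum => ?_
  choose Xf xf rf hrf using fun i => exists_germRing p (f i)
  choose Xm xm sm hsm using fun i => exists_germ p F (m i)
  obtain ⟨W, w, g, hg⟩ := exists_common p (Sum.elim Xf Xm)
    (fun i => match i with | .inl i => xf i | .inr i => xm i)
  let a : Fin n → O.obj.obj (op W) := fun i => (O.obj.map (g (.inl i)).op).hom (rf i)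
  let s : Fin n → sect F W := fun i => (F.val.presheaf.map (g (.inr i)).op).hom (sm i)
  have ha : ∀ i, germRingHom p W w (a i) = f i := fun i =>
    (germRingHom_res p (g (.inl i)) w (rf i)).trans ((by rw [hg (.inl i)] :
      germRingHom p (Xf i) (p.fiber.map (g (.inl i)) w) (rf i) = germRingHom p (Xf i) (xf i) (rf i)).trans (hrf i))
  have hs : ∀ i, germHom p F W w (s i) = m i := fun i =>
    (germHom_res p F (g (.inr i)) w (sm i)).trans ((by rw [hg (.inr i)] :
      germHom p F (Xm i) (p.fiber.map (g (.inr i)) w) (sm i) = germHom p F (Xm i) (xm i) (sm i)).trans (hsm i))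
  have h0 : germHom p F W w (∑ i, a i • s i) = 0 := by
    rw [map_sum, ← hsum]
    refine Finset.sum_congr rfl fun i _ => ?_
    rw [germHom_smul, hs, ← germRingHom_apply, ha]
  obtain ⟨Y, h, hh, y, hy⟩ := hit_of_germ_eq_zero p F w _ h0
  have hrel : ∑ i, (O.obj.map h.op).hom (a i) • res ((G.{u, u, u} O).obj F) h.op (s i) = 0 := by
    refine Eq.trans ?_ hh
    refine Eq.trans ?_ (map_sum (res ((G.{u, u, u} O).obj F) h.op) _ _).symm
    exact Finset.sum_congr rfl fun i _ => (res_smul ((G.{u, u, u} O).obj F) h.op (a i) (s i)).symm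
  obtain ⟨S, hS, hcov⟩ := hF Y n (fun i => (O.obj.map h.op).hom (a i))
    (fun i => res ((G.{u, u, u} O).obj F) h.op (s i)) hrel
  obtain ⟨V, k, hk, v, hv⟩ := hit_of_mem p y hS
  obtain ⟨l, t, b, hb, hb0⟩ := hcov k hk
  refine ⟨l, fun i q => germRingHom p V v (b i q), fun q => germHom p F V v (t q), fun i => ?_, fun q => ?_⟩
  · rw [← hs i, ← hy, ← germHom_res p F h y (s i), ← hv, ← germHom_res p F k v]
    refine (congrArg (germHom p F V v) (hb i)).trans ?_
    refine (map_sum (germHom p F V v) _ _).trans ?_
    exact Finset.sum_congr rfl fun q _ => germHom_smul p F v (b i q) (t q)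
  · have e : ∀ i, germRingHom p V v ((O.obj.map k.op).hom ((O.obj.map h.op).hom (a i))) = f i :=
      fun i => by rw [germRingHom_res, hv, germRingHom_res, hy, ha]
    have := congrArg (germRingHom (O := O) p V v) (hb0 q)
    rw [map_zero, map_sum] at this
    refine Eq.trans ?_ this
    refine Finset.sum_congr rfl fun i _ => ?_
    rw [map_mul, e, mul_comm]

/-- Flat stalks at a conservative family of points make relations locally trivial. -/
theorem crit_of_flat_stalk {P : ObjectProperty (GrothendieckTopology.Point.{u} J)}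
    (hP : P.IsConservativeFamilyOfPoints)
    (h : ∀ p, P p → Module.Flat (stalkRing p O) (stalkMod p F)) :
    Rel.Crit (R := O.obj) J ((G.{u, u, u} O).obj F) := by
  intro U n f s hrel
  refine ⟨Rel.trivSieve ((G.{u, u, u} O).obj F) (fun _ : Fin 1 => f) s,
    mem_of_hit hP _ fun p hp x => ?_, fun V g hg => ?_⟩
  · haveI := h p hp
    have h0 : ∑ i, germRingHom p U x (f i) • (germHom p F U x (s i) : stalkMod p F) = 0 := by
      refine Eq.trans ?_ ((congrArg (germHom p F U x) hrel).trans (map_zero _))
      refine Eq.trans ?_ (map_sum (germHom p F U x) _ _).symm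
      exact Finset.sum_congr rfl fun i _ => (germHom_smul p F x (f i) (s i)).symm
    obtain ⟨l, b, y, hy, hb⟩ := Module.Flat.isTrivialRelation_of_sum_smul_eq_zero h0
    choose Xb xb rb hrb using fun a : Fin n × Fin l => exists_germRing p (b a.1 a.2)
    choose Xy xy sy hsy using fun q : Fin l => exists_germ p F (y q)
    obtain ⟨W, w, g, hg⟩ := exists_common p
      (fun i : Option ((Fin n × Fin l) ⊕ Fin l) => match i with
        | none => U | some (.inl a) => Xb a | some (.inr q) => Xy q)
      (fun i => match i with | none => x | some (.inl a) => xb a | some (.inr q) => xy q)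
    let g0 : W ⟶ U := g none
    let b' : Fin n → Fin l → O.obj.obj (op W) := fun i q =>
      (O.obj.map (g (some (.inl (i, q)))).op).hom (rb (i, q))
    let t : Fin l → sect F W := fun q => (F.val.presheaf.map (g (some (.inr q))).op).hom (sy q)
    have hb' : ∀ i q, germRingHom p W w (b' i q) = b i q := fun i q => by
      refine (germRingHom_res p (g (some (.inl (i, q)))) w (rb (i, q))).trans ?_
      rw [hg]
      exact hrb (i, q)
    have ht : ∀ q, germHom p F W w (t q) = y q := fun q => by
      refine (germHom_res p F (g (some (.inr q))) w (sy q)).trans ?_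
      rw [hg]
      exact hsy q
    have hx : p.fiber.map g0 w = x := hg none
    let e : Fin n → sect F W := fun i =>
      (HSub.hSub (α := sect F W) (β := sect F W) (γ := sect F W) (res ((G.{u, u, u} O).obj F) g0.op (s i)) (∑ q, b' i q • t q))
    let e' : Fin l → O.obj.obj (op W) := fun q => ∑ i, b' i q * (O.obj.map g0.op).hom (f i)
    have he : ∀ i, germHom p F W w (e i) = 0 := fun i => by
      refine (map_sub (germHom p F W w) _ _).trans (sub_eq_zero.2 ?_)
      refine ((germHom_res p F g0 w (s i)).trans ?_)
      rw [hx]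
      refine (hy i).trans ((map_sum (germHom p F W w) _ _).trans ?_).symm
      exact Finset.sum_congr rfl fun q _ => by rw [germHom_smul, ht, ← germRingHom_apply, hb']
    have he' : ∀ q, germRingHom p W w (e' q) = 0 := fun q => by
      rw [map_sum, ← hb q]
      exact Finset.sum_congr rfl fun i _ => by rw [map_mul, hb', germRingHom_res, hx, mul_comm]
    obtain ⟨Z, k, hk, z, hz⟩ := hit_biInf p w (Sum.elim (fun i => nullSieve F (e i))
      (fun q => nullSieveRing (e' q))) (fun i => match i with
        | .inl i => hit_of_germ_eq_zero p F w _ (he i)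
        | .inr q => hit_of_germRing_eq_zero p w _ (he' q))
    refine ⟨Z, k ≫ g0, ⟨l, fun q => res ((G.{u, u, u} O).obj F) k.op (t q),
      fun i q => (O.obj.map k.op).hom (b' i q), fun i => ?_, fun _ q => ?_⟩, z, ?_⟩
    · have := hk (.inl i)
      change res ((G.{u, u, u} O).obj F) k.op (e i) = 0 at this
      replace this := (map_sub (res ((G.{u, u, u} O).obj F) k.op) _ _).symm.trans this
      rw [sub_eq_zero] at this
      rw [op_comp, res_comp]
      refine this.trans ?_
      refine (map_sum (res ((G.{u, u, u} O).obj F) k.op) _ _).trans ?_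
      exact Finset.sum_congr rfl fun q _ => res_smul ((G.{u, u, u} O).obj F) k.op (b' i q) (t q)
    · have := hk (.inr q)
      change (O.obj.map k.op).hom (e' q) = 0 at this
      rw [map_sum] at this
      refine Eq.trans ?_ this
      refine Finset.sum_congr rfl fun i _ => ?_
      rw [map_mul, op_comp, Rel.map_comp_apply]
    · rw [Functor.map_comp]
      exact (congrArg (p.fiber.map g0) hz).trans hx
  · obtain ⟨l, t, a, ha, ha0⟩ := hg
    exact ⟨l, t, a, ha, fun k => ha0 0 k⟩

end Groth.Agent.Lib.SiteStalk.Flat
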