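import Groth.Agent.Lib.SiteStalk.Germ

/-!
# Exactness and local rings at stalks
-/

universe u

open CategoryTheory Limits Opposite ModSite

namespace Groth.Agent.Lib.SiteStalk.Local

open Groth.Agent.Lib.SiteStalk.Germ

variable {C : Type u} [SmallCategory C] {J : GrothendieckTopology C}
  (p : GrothendieckTopology.Point.{u} J) {O : Sheaf J CommRingCat.{u}}

theorem isUnit_or_isUnit_one_sub
    (h : ∀ (U : C) (f : O.obj.obj (op U)), ∃ S ∈ J U, ∀ ⦃V : C⦄ (g : V ⟶ U), S g →
      IsUnit ((O.obj.map g.op).hom f) ∨ IsUnit ((O.obj.map g.op).hom (1 - f)))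
    (a : stalkRing p O) : IsUnit a ∨ IsUnit (1 - a) := by
  obtain ⟨X, x, r, rfl⟩ := exists_germRing p a
  obtain ⟨S, hS, hcov⟩ := h X r
  obtain ⟨Y, g, hg, y, hy⟩ := hit_of_mem p x hS
  subst hy
  rw [← germRingHom_res p g y r]
  refine (hcov g hg).imp (fun hu => hu.map (germRingHom p Y y)) (fun hu => ?_)
  have := hu.map (germRingHom p Y y)
  rwa [map_sub, map_sub, map_one, map_one] at this

/-- A germ which is a unit is a unit in a neighbourhood. -/
theorem hit_isUnit {X : C} (x : p.fiber.obj X) (r : O.obj.obj (op X))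
    (hu : IsUnit (germRingHom p X x r)) :
    ∃ (Y : C) (g : Y ⟶ X), IsUnit ((O.obj.map g.op).hom r) ∧
      ∃ y : p.fiber.obj Y, p.fiber.map g y = x := by
  obtain ⟨b, hb⟩ := hu.exists_right_inv
  obtain ⟨Xb, xb, rb, rfl⟩ := exists_germRing p b
  obtain ⟨W, w, g, hg⟩ := exists_common p (fun i : Bool => match i with | true => X | false => Xb)
    (fun i => match i with | true => x | false => xb)
  let g1 : W ⟶ X := g true
  let g2 : W ⟶ Xb := g false
  have h1 : p.fiber.map g1 w = x := hg true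
  have h2 : p.fiber.map g2 w = xb := hg false
  have he : germRingHom p W w ((O.obj.map g1.op).hom r * (O.obj.map g2.op).hom rb - 1) = 0 := by
    rw [map_sub, map_mul, map_one, germRingHom_res, germRingHom_res, h1, h2, hb, sub_self]
  obtain ⟨Z, k, hk, z, hz⟩ := hit_of_germRing_eq_zero p w _ he
  change (O.obj.map k.op).hom _ = 0 at hk
  refine ⟨Z, k ≫ g1, ?_, z, ?_⟩
  · refine IsUnit.of_mul_eq_one ((O.obj.map k.op).hom ((O.obj.map g2.op).hom rb)) ?_
    rw [map_sub, map_mul, map_one, sub_eq_zero] at hk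
    rw [op_comp, Functor.map_comp]
    exact hk
  · rw [Functor.map_comp]
    exact (congrArg (p.fiber.map g1) hz).trans h1

end Groth.Agent.Lib.SiteStalk.Local
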